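import Cfsg.Agent.Lib.Rank3.SuzData

/-! The Suzuki graph on 1782 points: invariance. -/

set_option autoImplicit false

namespace Cfsg.Lib.Rank3

open Cfsg.Lib.PC

theorem suz_inv_t0 : invChk 11 1782 suzt suzR.get 0 33 = true := by
  decide +kernel

theorem suz_inv_t1 : invChk 11 1782 suzt suzR.get 33 33 = true := by
  decide +kernel

theorem suz_inv_t2 : invChk 11 1782 suzt suzR.get 66 33 = true := by
  decide +kernel

theorem suz_inv_t3 : invChk 11 1782 suzt suzR.get 99 33 = true := by
  decide +kernel

theorem suz_inv_t4 : invChk 11 1782 suzt suzR.get 132 33 = true := by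
  decide +kernel

theorem suz_inv_t5 : invChk 11 1782 suzt suzR.get 165 33 = true := by
  decide +kernel

theorem suz_inv_t6 : invChk 11 1782 suzt suzR.get 198 33 = true := by
  decide +kernel

theorem suz_inv_t7 : invChk 11 1782 suzt suzR.get 231 33 = true := by
  decide +kernel

theorem suz_inv_t8 : invChk 11 1782 suzt suzR.get 264 33 = true := by
  decide +kernel

theorem suz_inv_t9 : invChk 11 1782 suzt suzR.get 297 33 = true := by
  decide +kernel

theorem suz_inv_t10 : invChk 11 1782 suzt suzR.get 330 33 = true := by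
  decide +kernel

theorem suz_inv_t11 : invChk 11 1782 suzt suzR.get 363 33 = true := by
  decide +kernel

theorem suz_inv_t12 : invChk 11 1782 suzt suzR.get 396 33 = true := by
  decide +kernel

theorem suz_inv_t13 : invChk 11 1782 suzt suzR.get 429 33 = true := by
  decide +kernel

theorem suz_inv_t14 : invChk 11 1782 suzt suzR.get 462 33 = true := by
  decide +kernel

theorem suz_inv_t15 : invChk 11 1782 suzt suzR.get 495 33 = true := by
  decide +kernel

theorem suz_inv_t16 : invChk 11 1782 suzt suzR.get 528 33 = true := by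
  decide +kernel

theorem suz_inv_t17 : invChk 11 1782 suzt suzR.get 561 33 = true := by
  decide +kernel

theorem suz_inv_t18 : invChk 11 1782 suzt suzR.get 594 33 = true := by
  decide +kernel

theorem suz_inv_t19 : invChk 11 1782 suzt suzR.get 627 33 = true := by
  decide +kernel

theorem suz_inv_t20 : invChk 11 1782 suzt suzR.get 660 33 = true := by
  decide +kernel

theorem suz_inv_t21 : invChk 11 1782 suzt suzR.get 693 33 = true := by
  decide +kernel

theorem suz_inv_t22 : invChk 11 1782 suzt suzR.get 726 33 = true := by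
  decide +kernel

theorem suz_inv_t23 : invChk 11 1782 suzt suzR.get 759 33 = true := by
  decide +kernel

theorem suz_inv_t24 : invChk 11 1782 suzt suzR.get 792 33 = true := by
  decide +kernel

theorem suz_inv_t25 : invChk 11 1782 suzt suzR.get 825 33 = true := by
  decide +kernel

theorem suz_inv_t26 : invChk 11 1782 suzt suzR.get 858 33 = true := by
  decide +kernel

theorem suz_inv_t27 : invChk 11 1782 suzt suzR.get 891 33 = true := by
  decide +kernel

theorem suz_inv_t28 : invChk 11 1782 suzt suzR.get 924 33 = true := by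
  decide +kernel

theorem suz_inv_t29 : invChk 11 1782 suzt suzR.get 957 33 = true := by
  decide +kernel

theorem suz_inv_t30 : invChk 11 1782 suzt suzR.get 990 33 = true := by
  decide +kernel

theorem suz_inv_t31 : invChk 11 1782 suzt suzR.get 1023 33 = true := by
  decide +kernel

theorem suz_inv_t32 : invChk 11 1782 suzt suzR.get 1056 33 = true := by
  decide +kernel

theorem suz_inv_t33 : invChk 11 1782 suzt suzR.get 1089 33 = true := by
  decide +kernel

theorem suz_inv_t34 : invChk 11 1782 suzt suzR.get 1122 33 = true := by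
  decide +kernel

theorem suz_inv_t35 : invChk 11 1782 suzt suzR.get 1155 33 = true := by
  decide +kernel

theorem suz_inv_t36 : invChk 11 1782 suzt suzR.get 1188 33 = true := by
  decide +kernel

theorem suz_inv_t37 : invChk 11 1782 suzt suzR.get 1221 33 = true := by
  decide +kernel

theorem suz_inv_t38 : invChk 11 1782 suzt suzR.get 1254 33 = true := by
  decide +kernel

theorem suz_inv_t39 : invChk 11 1782 suzt suzR.get 1287 33 = true := by
  decide +kernel

theorem suz_inv_t40 : invChk 11 1782 suzt suzR.get 1320 33 = true := by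
  decide +kernel

theorem suz_inv_t41 : invChk 11 1782 suzt suzR.get 1353 33 = true := by
  decide +kernel

theorem suz_inv_t42 : invChk 11 1782 suzt suzR.get 1386 33 = true := by
  decide +kernel

theorem suz_inv_t43 : invChk 11 1782 suzt suzR.get 1419 33 = true := by
  decide +kernel

theorem suz_inv_t44 : invChk 11 1782 suzt suzR.get 1452 33 = true := by
  decide +kernel

theorem suz_inv_t45 : invChk 11 1782 suzt suzR.get 1485 33 = true := by
  decide +kernel

theorem suz_inv_t46 : invChk 11 1782 suzt suzR.get 1518 33 = true := by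
  decide +kernel

theorem suz_inv_t47 : invChk 11 1782 suzt suzR.get 1551 33 = true := by
  decide +kernel

theorem suz_inv_t48 : invChk 11 1782 suzt suzR.get 1584 33 = true := by
  decide +kernel

theorem suz_inv_t49 : invChk 11 1782 suzt suzR.get 1617 33 = true := by
  decide +kernel

theorem suz_inv_t50 : invChk 11 1782 suzt suzR.get 1650 33 = true := by
  decide +kernel

theorem suz_inv_t51 : invChk 11 1782 suzt suzR.get 1683 33 = true := by
  decide +kernel

theorem suz_inv_t52 : invChk 11 1782 suzt suzR.get 1716 33 = true := by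
  decide +kernel

theorem suz_inv_t53 : invChk 11 1782 suzt suzR.get 1749 33 = true := by
  decide +kernel

theorem suz_inv_t : InvOn 11 1782 suzt suzR.get 1782 :=
  ((((((((((((((((((((((((((((((((((((((((((((((((((((((InvOn.zero _ _ _ _).step _ 33 suz_inv_t0 rfl).step _ 66 suz_inv_t1 rfl).step _ 99 suz_inv_t2 rfl).step _ 132 suz_inv_t3 rfl).step _ 165 suz_inv_t4 rfl).step _ 198 suz_inv_t5 rfl).step _ 231 suz_inv_t6 rfl).step _ 264 suz_inv_t7 rfl).step _ 297 suz_inv_t8 rfl).step _ 330 suz_inv_t9 rfl).step _ 363 suz_inv_t10 rfl).step _ 396 suz_inv_t11 rfl).step _ 429 suz_inv_t12 rfl).step _ 462 suz_inv_t13 rfl).step _ 495 suz_inv_t14 rfl).step _ 528 suz_inv_t15 rfl).step _ 561 suz_inv_t16 rfl).step _ 594 suz_inv_t17 rfl).step _ 627 suz_inv_t18 rfl).step _ 660 suz_inv_t19 rfl).step _ 693 suz_inv_t20 rfl).step _ 726 suz_inv_t21 rfl).step _ 759 suz_inv_t22 rfl).step _ 792 suz_inv_t23 rfl).step _ 825 suz_inv_t24 rfl).step _ 858 suz_inv_t25 rfl).step _ 891 suz_inv_t26 rfl).step _ 924 suz_inv_t27 rfl).step _ 957 suz_inv_t28 rfl).step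 _ 990 suz_inv_t29 rfl).step _ 1023 suz_inv_t30 rfl).step _ 1056 suz_inv_t31 rfl).step _ 1089 suz_inv_t32 rfl).step _ 1122 suz_inv_t33 rfl).step _ 1155 suz_inv_t34 rfl).step _ 1188 suz_inv_t35 rfl).step _ 1221 suz_inv_t36 rfl).step _ 1254 suz_inv_t37 rfl).step _ 1287 suz_inv_t38 rfl).step _ 1320 suz_inv_t39 rfl).step _ 1353 suz_inv_t40 rfl).step _ 1386 suz_inv_t41 rfl).step _ 1419 suz_inv_t42 rfl).step _ 1452 suz_inv_t43 rfl).step _ 1485 suz_inv_t44 rfl).step _ 1518 suz_inv_t45 rfl).step _ 1551 suz_inv_t46 rfl).step _ 1584 suz_inv_t47 rfl).step _ 1617 suz_inv_t48 rfl).step _ 1650 suz_inv_t49 rfl).step _ 1683 suz_inv_t50 rfl).step _ 1716 suz_inv_t51 rfl).step _ 1749 suz_inv_t52 rfl).step _ 1782 suz_inv_t53 rfl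

end Cfsg.Lib.Rank3
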