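import Cfsg.Agent.Lib.Rank3.SuzData

/-! The Suzuki graph on 1782 points: invariance. -/

set_option autoImplicit false

namespace Cfsg.Lib.Rank3

open Cfsg.Lib.PC

theorem suz_inv_x0 : invChk 11 1782 suzx suzR.get 0 33 = true := by
  decide +kernel

theorem suz_inv_x1 : invChk 11 1782 suzx suzR.get 33 33 = true := by
  decide +kernel

theorem suz_inv_x2 : invChk 11 1782 suzx suzR.get 66 33 = true := by
  decide +kernel

theorem suz_inv_x3 : invChk 11 1782 suzx suzR.get 99 33 = true := by
  decide +kernel

theorem suz_inv_x4 : invChk 11 1782 suzx suzR.get 132 33 = true := by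
  decide +kernel

theorem suz_inv_x5 : invChk 11 1782 suzx suzR.get 165 33 = true := by
  decide +kernel

theorem suz_inv_x6 : invChk 11 1782 suzx suzR.get 198 33 = true := by
  decide +kernel

theorem suz_inv_x7 : invChk 11 1782 suzx suzR.get 231 33 = true := by
  decide +kernel

theorem suz_inv_x8 : invChk 11 1782 suzx suzR.get 264 33 = true := by
  decide +kernel

theorem suz_inv_x9 : invChk 11 1782 suzx suzR.get 297 33 = true := by
  decide +kernel

theorem suz_inv_x10 : invChk 11 1782 suzx suzR.get 330 33 = true := by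
  decide +kernel

theorem suz_inv_x11 : invChk 11 1782 suzx suzR.get 363 33 = true := by
  decide +kernel

theorem suz_inv_x12 : invChk 11 1782 suzx suzR.get 396 33 = true := by
  decide +kernel

theorem suz_inv_x13 : invChk 11 1782 suzx suzR.get 429 33 = true := by
  decide +kernel

theorem suz_inv_x14 : invChk 11 1782 suzx suzR.get 462 33 = true := by
  decide +kernel

theorem suz_inv_x15 : invChk 11 1782 suzx suzR.get 495 33 = true := by
  decide +kernel

theorem suz_inv_x16 : invChk 11 1782 suzx suzR.get 528 33 = true := by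
  decide +kernel

theorem suz_inv_x17 : invChk 11 1782 suzx suzR.get 561 33 = true := by
  decide +kernel

theorem suz_inv_x18 : invChk 11 1782 suzx suzR.get 594 33 = true := by
  decide +kernel

theorem suz_inv_x19 : invChk 11 1782 suzx suzR.get 627 33 = true := by
  decide +kernel

theorem suz_inv_x20 : invChk 11 1782 suzx suzR.get 660 33 = true := by
  decide +kernel

theorem suz_inv_x21 : invChk 11 1782 suzx suzR.get 693 33 = true := by
  decide +kernel

theorem suz_inv_x22 : invChk 11 1782 suzx suzR.get 726 33 = true := by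
  decide +kernel

theorem suz_inv_x23 : invChk 11 1782 suzx suzR.get 759 33 = true := by
  decide +kernel

theorem suz_inv_x24 : invChk 11 1782 suzx suzR.get 792 33 = true := by
  decide +kernel

theorem suz_inv_x25 : invChk 11 1782 suzx suzR.get 825 33 = true := by
  decide +kernel

theorem suz_inv_x26 : invChk 11 1782 suzx suzR.get 858 33 = true := by
  decide +kernel

theorem suz_inv_x27 : invChk 11 1782 suzx suzR.get 891 33 = true := by
  decide +kernel

theorem suz_inv_x28 : invChk 11 1782 suzx suzR.get 924 33 = true := by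
  decide +kernel

theorem suz_inv_x29 : invChk 11 1782 suzx suzR.get 957 33 = true := by
  decide +kernel

theorem suz_inv_x30 : invChk 11 1782 suzx suzR.get 990 33 = true := by
  decide +kernel

theorem suz_inv_x31 : invChk 11 1782 suzx suzR.get 1023 33 = true := by
  decide +kernel

theorem suz_inv_x32 : invChk 11 1782 suzx suzR.get 1056 33 = true := by
  decide +kernel

theorem suz_inv_x33 : invChk 11 1782 suzx suzR.get 1089 33 = true := by
  decide +kernel

theorem suz_inv_x34 : invChk 11 1782 suzx suzR.get 1122 33 = true := by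
  decide +kernel

theorem suz_inv_x35 : invChk 11 1782 suzx suzR.get 1155 33 = true := by
  decide +kernel

theorem suz_inv_x36 : invChk 11 1782 suzx suzR.get 1188 33 = true := by
  decide +kernel

theorem suz_inv_x37 : invChk 11 1782 suzx suzR.get 1221 33 = true := by
  decide +kernel

theorem suz_inv_x38 : invChk 11 1782 suzx suzR.get 1254 33 = true := by
  decide +kernel

theorem suz_inv_x39 : invChk 11 1782 suzx suzR.get 1287 33 = true := by
  decide +kernel

theorem suz_inv_x40 : invChk 11 1782 suzx suzR.get 1320 33 = true := by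
  decide +kernel

theorem suz_inv_x41 : invChk 11 1782 suzx suzR.get 1353 33 = true := by
  decide +kernel

theorem suz_inv_x42 : invChk 11 1782 suzx suzR.get 1386 33 = true := by
  decide +kernel

theorem suz_inv_x43 : invChk 11 1782 suzx suzR.get 1419 33 = true := by
  decide +kernel

theorem suz_inv_x44 : invChk 11 1782 suzx suzR.get 1452 33 = true := by
  decide +kernel

theorem suz_inv_x45 : invChk 11 1782 suzx suzR.get 1485 33 = true := by
  decide +kernel

theorem suz_inv_x46 : invChk 11 1782 suzx suzR.get 1518 33 = true := by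
  decide +kernel

theorem suz_inv_x47 : invChk 11 1782 suzx suzR.get 1551 33 = true := by
  decide +kernel

theorem suz_inv_x48 : invChk 11 1782 suzx suzR.get 1584 33 = true := by
  decide +kernel

theorem suz_inv_x49 : invChk 11 1782 suzx suzR.get 1617 33 = true := by
  decide +kernel

theorem suz_inv_x50 : invChk 11 1782 suzx suzR.get 1650 33 = true := by
  decide +kernel

theorem suz_inv_x51 : invChk 11 1782 suzx suzR.get 1683 33 = true := by
  decide +kernel

theorem suz_inv_x52 : invChk 11 1782 suzx suzR.get 1716 33 = true := by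
  decide +kernel

theorem suz_inv_x53 : invChk 11 1782 suzx suzR.get 1749 33 = true := by
  decide +kernel

theorem suz_inv_x : InvOn 11 1782 suzx suzR.get 1782 :=
  ((((((((((((((((((((((((((((((((((((((((((((((((((((((InvOn.zero _ _ _ _).step _ 33 suz_inv_x0 rfl).step _ 66 suz_inv_x1 rfl).step _ 99 suz_inv_x2 rfl).step _ 132 suz_inv_x3 rfl).step _ 165 suz_inv_x4 rfl).step _ 198 suz_inv_x5 rfl).step _ 231 suz_inv_x6 rfl).step _ 264 suz_inv_x7 rfl).step _ 297 suz_inv_x8 rfl).step _ 330 suz_inv_x9 rfl).step _ 363 suz_inv_x10 rfl).step _ 396 suz_inv_x11 rfl).step _ 429 suz_inv_x12 rfl).step _ 462 suz_inv_x13 rfl).step _ 495 suz_inv_x14 rfl).step _ 528 suz_inv_x15 rfl).step _ 561 suz_inv_x16 rfl).step _ 594 suz_inv_x17 rfl).step _ 627 suz_inv_x18 rfl).step _ 660 suz_inv_x19 rfl).step _ 693 suz_inv_x20 rfl).step _ 726 suz_inv_x21 rfl).step _ 759 suz_inv_x22 rfl).step _ 792 suz_inv_x23 rfl).step _ 825 suz_inv_x24 rfl).step _ 858 suz_inv_x25 rfl).step _ 891 suz_inv_x26 rfl).step _ 924 suz_inv_x27 rfl).step _ 957 suz_inv_x28 rfl).step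 _ 990 suz_inv_x29 rfl).step _ 1023 suz_inv_x30 rfl).step _ 1056 suz_inv_x31 rfl).step _ 1089 suz_inv_x32 rfl).step _ 1122 suz_inv_x33 rfl).step _ 1155 suz_inv_x34 rfl).step _ 1188 suz_inv_x35 rfl).step _ 1221 suz_inv_x36 rfl).step _ 1254 suz_inv_x37 rfl).step _ 1287 suz_inv_x38 rfl).step _ 1320 suz_inv_x39 rfl).step _ 1353 suz_inv_x40 rfl).step _ 1386 suz_inv_x41 rfl).step _ 1419 suz_inv_x42 rfl).step _ 1452 suz_inv_x43 rfl).step _ 1485 suz_inv_x44 rfl).step _ 1518 suz_inv_x45 rfl).step _ 1551 suz_inv_x46 rfl).step _ 1584 suz_inv_x47 rfl).step _ 1617 suz_inv_x48 rfl).step _ 1650 suz_inv_x49 rfl).step _ 1683 suz_inv_x50 rfl).step _ 1716 suz_inv_x51 rfl).step _ 1749 suz_inv_x52 rfl).step _ 1782 suz_inv_x53 rfl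

end Cfsg.Lib.Rank3
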